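import Cfsg.Agent.L0.MC2
import Cfsg.Agent.H11.Syl

/-! Uniserial elements in `p`-groups of maximal class. -/

set_option autoImplicit false

namespace Cfsg.Agent.MX

open Subgroup H9 L0
open scoped commutatorElement

universe u
variable {G : Type u} [Group G] {p n l : ℕ} {s : G}

theorem g1_le (l : ℕ) : gam G 1 ≤ tsc G l := fun g hg x hx =>
  (commutator_comm _ _).le.trans (H10.three_subgroups_normal (A := ⊤) (B := ⊤) (C := gam G l) (N := gam G (l + 1 + 1))
    (commutator_mono (commutator_comm _ _).le le_rfl) le_rfl) (commutator_mem_commutator hx hg)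

variable [Finite G] [hp : Fact p.Prime] (h : MaxClass p n G)
include h

theorem gd {Q : Subgroup G} (hQ : Q ≠ ⊤) : ∃ s, Good n s ∧ s ∉ Q := by
  have h3 := h.three_le
  have p2 := hp.out.two_le
  obtain ⟨s, hs⟩ := exists_avoid h.isPGroup (fun j => if j = 0 then Q else tsc G (min j (n - 3))) fun j _ => by
    split_ifs
    exacts [hQ, mc_tsc_ne h (by omega)]
  have s1 : ∀ j, 1 ≤ j → j < p → s ∉ tsc G (min j (n - 3)) := fun j h1 h2 => by
    have := hs j h2
    rwa [if_neg (by omega)] at this
  refine ⟨s, fun j => ?_, by simpa using hs 0 (by omega)⟩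
  induction j using Nat.strong_induction_on with | _ j ih =>
  intro hj
  by_cases j0 : j = 0
  · subst j0
    have := s1 1 le_rfl (by omega)
    rcases h3.eq_or_lt with rfl | h4
    · simpa using this
    · rw [min_eq_left (by omega)] at this
      exact fun e => this (tsc_zero_le e)
  by_cases j1 : j < p
  · have := s1 j (by omega) j1
    rwa [min_eq_left (by omega)] at this
  · have := mc_step h (i := j - (p - 1)) (by omega) (by omega) (ih _ (by omega) (by omega))
    rwa [show j - (p - 1) + (p - 1) = j by omega] at this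

theorem cz1 : Nat.card (gam G (n - 2)) = p := by
  have h3 := h.three_le
  rw [h.card_lcs (by omega) (by omega), show n - 1 - (n - 2) = 1 by omega, pow_one]

theorem gc (hs : Good n s) : Nat.card (centralizer ({s} : Set G)) = p ^ 2 := by
  have h3 := h.three_le
  have s0 := hs 0 (by omega)
  have a := mc_card_ne_top h (H := centralizer {s}) fun e => s0 fun x _ => by
    rw [commutatorElement_eq_one_iff_mul_comm.2 (mem_centralizer_singleton_iff.1 (e ▸ mem_top x))]; exact one_mem _
  have b := card_le_of_le (fun x hx => hs.central h hx.2 (mem_centralizer_singleton_iff.1 hx.1) :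
    centralizer {s} ⊓ gam G 1 ≤ gam G (n - 2))
  have c := H11.card_lt_of_lt (H := gam G (n - 2)) (K := centralizer {s}) (lt_of_le_of_ne (fun x hx => by
    have := gam_cm hx s
    rw [mc_bot h (by omega)] at this
    exact mem_centralizer_singleton_iff.2 (commutatorElement_eq_one_iff_mul_comm.1 this)) fun e =>
      s0 (g1_le 0 (gam_anti (by omega) (e ▸ mem_centralizer_singleton_iff.2 rfl : s ∈ gam G (n - 2)))))
  rw [cz1 h] at b c
  obtain ⟨k, e⟩ := IsPGroup.iff_card.1 (h.isPGroup.to_subgroup (centralizer {s}))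
  have p2 := hp.out.one_lt
  rw [e] at a c ⊢
  have d : p ^ k ≤ p ^ 2 := by nlinarith
  have := (Nat.pow_le_pow_iff_right p2).1 d
  have := (Nat.pow_lt_pow_iff_right p2).1 (show p ^ 1 < p ^ k by rwa [pow_one])
  congr 1
  omega

theorem ng (h1 : 1 ≤ l) (hl : l + 3 ≤ n) (hs : s ∈ tsc G l) : p < Nat.card ↥(gam G l ⊓ centralizer {s}) := by
  have a : (gam G l ⊓ centralizer {s}).relIndex (gam G l) ≤ Nat.card (gam G (l + 1 + 1)) :=
    Nat.card_le_card_of_injective (fun q => ⟨⁅(q.out : G), s⁆, hs _ q.out.2⟩) fun a b e => by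
      rw [← a.out_eq, ← b.out_eq]
      refine QuotientGroup.eq.2 ⟨(a.out⁻¹ * b.out).2, mem_centralizer_singleton_iff.2 ?_⟩
      have e := congrArg Subtype.val e
      simp only [commutatorElement_def, mul_left_inj] at e
      calc _ = (a.out : G)⁻¹ * (b.out * s * (b.out : G)⁻¹) * b.out := by simp [mul_assoc]
        _ = _ := by rw [← e]; simp [mul_assoc]
  have b := H11.card_mul_relIndex (inf_le_left : gam G l ⊓ centralizer {s} ≤ gam G l)
  rw [h.card_lcs (by omega) (by omega)] at a b
  rw [show n - 1 - l = n - 1 - (l + 1 + 1) + 2 by omega, pow_add] at b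
  have p2 := hp.out.one_lt
  have : 0 < p ^ (n - 1 - (l + 1 + 1)) := by positivity
  by_contra! c
  have := Nat.mul_le_mul c a
  rw [b, mul_comm p] at this
  have := Nat.le_of_mul_le_mul_left this ‹_›
  nlinarith

theorem nle (h4 : 4 ≤ n) (hs : Good n s) : ¬ tsc G (n - 3) ≤ gam G 1 := fun e => by
  have a := (mc_tsc_max h (by omega) (hs (n - 3) (by omega))).ge.trans (sup_le_sup_right e _)
  refine mc_not_le h (j := 1) (by omega) (cm_top_le_of_cyc (N := gam G 1) ⟨⟨s, fun q => ?_⟩⟩)
  obtain ⟨g, rfl⟩ := QuotientGroup.mk_surjective q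
  obtain ⟨y, hy, z, ⟨k, rfl⟩, rfl⟩ := mem_sup_of_normal_left.1 (a (mem_top g))
  exact ⟨k, by rw [QuotientGroup.mk_mul, (QuotientGroup.eq_one_iff y).2 hy, one_mul]; rfl⟩

end Cfsg.Agent.MX
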