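import Cfsg.Agent.L0.MC2

/-! Blackburn: the two-step centralizers of a `p`-group of maximal class coincide. -/

set_option autoImplicit false

namespace Cfsg.Agent.MX

open Subgroup Cfsg.Agent.H9 Cfsg.Agent.L0
open scoped commutatorElement

universe u

namespace BL

theorem ab {Q : Type*} [Group Q] (a c g : Q) (hU : ∀ z, Commute ⁅⁅a, g⁆, c⁆ z)
    (hV : ∀ z, Commute ⁅a, ⁅c, g⁆⁆ z) (hbd : Commute ⁅a, g⁆ ⁅c, g⁆) (h1 : Commute ⁅a, c⁆ ⁅a, g⁆)
    (h2 : Commute ⁅a, c⁆ ⁅c, g⁆) : ⁅⁅a, g⁆, c⁆ * ⁅a, ⁅c, g⁆⁆ = ⁅⁅a, c⁆, g⁆ := by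
  have e0 : ⁅⁅a, c⁆, g⁆⁻¹ * ⁅a, c⁆ = ⁅⁅a, g⁆⁻¹ * a, ⁅c, g⁆⁻¹ * c⁆ := by
    simp only [commutatorElement_def]; group
  generalize ⁅⁅a, c⁆, g⁆ = w at e0 ⊢
  generalize ⁅a, g⁆ = b at *
  generalize ⁅c, g⁆ = d at *
  have e1 : ⁅b⁻¹ * a, d⁻¹ * c⁆ = b⁻¹ * ((d⁻¹ * ⁅a, d⁆⁻¹ * d) * (d⁻¹ * ⁅a, c⁆ * d)) * b *
      ((b⁻¹ * d⁻¹ * b * d) * (d⁻¹ * (b⁻¹ * ⁅b, c⁆⁻¹ * b) * d)) := by
    simp only [commutatorElement_def]; group
  have cj : ∀ u z : Q, Commute u z → z⁻¹ * u * z = u := fun u z h => by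
    rw [mul_assoc, h.eq, inv_mul_cancel_left]
  have e2 : b⁻¹ * d⁻¹ * b * d = 1 := by
    rw [cj _ _ hbd.symm.inv_left, inv_mul_cancel]
  rw [e2, cj _ _ (hV d).inv_left, cj _ _ h2, cj _ _ (hU b).inv_left, cj _ _ (hU d).inv_left,
    cj _ _ ((hV b).inv_left.mul_left h1), one_mul, mul_assoc, ← (hU _).inv_left.eq,
    ← mul_assoc] at e1
  rw [e1] at e0
  have := mul_right_cancel e0
  rw [← inv_inv w, this, mul_inv_rev, inv_inv, inv_inv]

variable {G : Type u} [Group G]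

theorem cg {i j k : ℕ} {a b : G} (ha : a ∈ gam G i) (hb : b ∈ gam G j) (hk : k ≤ i + j + 1) :
    ⁅a, b⁆ ∈ gam G k :=
  gam_anti hk (commutator_lowerCentralSeries_le ⊤ i j (commutator_mem_commutator ha hb))

theorem cq {k : ℕ} {a b : G} (h : ⁅a, b⁆ ∈ gam G k) :
    Commute (QuotientGroup.mk' (gam G k) a) (QuotientGroup.mk' (gam G k) b) := by
  rw [← commutatorElement_eq_one_iff_commute, ← map_commutatorElement]
  exact (QuotientGroup.eq_one_iff _).2 h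

theorem cz {k : ℕ} {a : G} (h : a ∈ gam G k) (z : G ⧸ gam G (k + 1)) :
    Commute (QuotientGroup.mk' (gam G (k + 1)) a) z := by
  obtain ⟨z, rfl⟩ := QuotientGroup.mk'_surjective _ z
  exact cq (gam_cm h z)

theorem der {a c g : G} {k : ℕ} (h1 : ⁅⁅a, g⁆, c⁆ ∈ gam G (k + 1)) (h2 : ⁅a, ⁅c, g⁆⁆ ∈ gam G (k + 1))
    (h3 : ⁅⁅a, g⁆, ⁅c, g⁆⁆ ∈ gam G (k + 1 + 1)) (h4 : ⁅a, c⁆ ∈ gam G k) :
    QuotientGroup.mk' (gam G (k + 1 + 1)) ⁅⁅a, g⁆, c⁆ * QuotientGroup.mk' (gam G (k + 1 + 1)) ⁅a, ⁅c, g⁆⁆ =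
      QuotientGroup.mk' (gam G (k + 1 + 1)) ⁅⁅a, c⁆, g⁆ := by
  have o : ∀ u v : G, ⁅u, v⁆ ∈ gam G 1 := fun u v => gam_cm (i := 0) (mem_top u) v
  have a1 := cz h1
  have a2 := cz h2
  have a3 := cq h3
  have a4 := cq (cg h4 (o a g) (k := k + 1 + 1) le_rfl)
  have a5 := cq (cg h4 (o c g) (k := k + 1 + 1) le_rfl)
  simp only [map_commutatorElement] at a1 a2 a3 a4 a5 ⊢
  exact ab _ _ _ a1 a2 a3 a4 a5

theorem em (y x : G) (i : ℕ) : eng y x i ∈ gam G i := by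
  simpa using eng_mem (k := 0) (mem_top y) x i

theorem derx (y x : G) (a b k : ℕ) (hk : k = a + b + 1) :
    QuotientGroup.mk' (gam G (k + 1 + 1)) ⁅eng y x (a + 1), eng y x b⁆ *
      QuotientGroup.mk' (gam G (k + 1 + 1)) ⁅eng y x a, eng y x (b + 1)⁆ =
      QuotientGroup.mk' (gam G (k + 1 + 1)) ⁅⁅eng y x a, eng y x b⁆, x⁆ :=
  der (cg (em y x (a + 1)) (em y x b) (by omega)) (cg (em y x a) (em y x (b + 1)) (by omega))
    (cg (em y x (a + 1)) (em y x (b + 1)) (by omega)) (cg (em y x a) (em y x b) (by omega))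

theorem q1 {k : ℕ} {a : G} : QuotientGroup.mk' (gam G k) a = 1 ↔ a ∈ gam G k :=
  QuotientGroup.eq_one_iff a

theorem one {x y : G} {l : ℕ} (hy : ∀ j, 1 ≤ j → j < l → y ∈ tsc G j) :
    ∀ b a, a + b + 1 ≤ l → ⁅eng y x a, eng y x b⁆ ∈ gam G (a + b + 1 + 1) := by
  intro b
  induction b with
  | zero =>
    intro a ha
    rcases Nat.eq_zero_or_pos a with rfl | h
    · rw [commutatorElement_self]; exact one_mem _
    · exact hy a h (by omega) _ (em y x a)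
  | succ b ih =>
    intro a ha
    have h := derx y x a b _ rfl
    rw [q1.2 (gam_cm (ih a (by omega)) x), q1.2 (gam_anti (by omega) (ih (a + 1) (by omega))),
      one_mul] at h
    exact q1.1 h

theorem key [Finite G] {p n l : ℕ} [hp : Fact p.Prime] (h : MaxClass p n G) {x y : G}
    (hx : Good n x) (h2 : 2 ≤ l) (hlp : l < p) (hl : l + 4 ≤ n) (h0 : ⁅y, x⁆ ∉ gam G 2)
    (hy : ∀ j, 1 ≤ j → j < l → y ∈ tsc G j) : y ∈ tsc G l := by
  by_contra hn
  obtain ⟨r, rfl⟩ : ∃ r, l = r + 1 + 1 := ⟨l - 2, by omega⟩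
  have t1 : eng y x (r + 1 + 1) ∉ gam G (r + 1 + 1 + 1) := by
    have := hx.eng_not h (j := 1) (i := r + 1) le_rfl (gam_cm (i := 0) (mem_top y) x) h0 (by omega)
    rwa [← eng_succ, show 1 + (r + 1) + 1 = r + 1 + 1 + 1 by omega] at this
  have E0 : ⁅eng y x (r + 1 + 1), y⁆ ∉ gam G (r + 1 + 1 + 1 + 1) :=
    mc_cm_not h (by omega) hn (em y x _) t1
  have E0' : ⁅eng y x (r + 1 + 1), y⁆ ∈ gam G (r + 1 + 1 + 1) := gam_cm (em y x _) y
  have ε0 := mc_cm_not h (by omega) (hx (r + 1 + 1 + 1) (by omega)) E0' E0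
  have ε1 := mc_up h (by omega) (gam_cm E0' x)
  let f := QuotientGroup.mk' (gam G (r + 1 + 1 + 1 + 1 + 1))
  set e := f ⁅⁅eng y x (r + 1 + 1), y⁆, x⁆ with he
  have e1 : e ≠ 1 := fun h' => ε0 (q1.1 h')
  have ep : e ^ p = 1 := by
    rw [he, ← map_pow]
    exact q1.2 (gam_anti (by omega) ε1)
  have A : ∀ b a, a + b = r + 1 + 1 → f ⁅⁅eng y x a, eng y x b⁆, x⁆ = e ^ ((-1 : ℤ) ^ b) := by
    intro b
    induction b with
    | zero => intro a ha; obtain rfl : a = r + 1 + 1 := ha; rw [pow_zero, zpow_one]; rfl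
    | succ b ih =>
      intro a ha
      have h1 := derx y x a b (r + 1 + 1) (by omega)
      rw [q1.2 (gam_cm (gam_anti (by omega) (one hy b a (by omega))) x), ← map_mul] at h1
      have h3 := q1.2 (gam_cm (q1.1 h1) x)
      have h4 : ∀ u v : G, ⁅u * v, x⁆ = u * ⁅v, x⁆ * u⁻¹ * ⁅u, x⁆ := fun u v => by
        simp only [commutatorElement_def]; group
      have h5 := cz (gam_cm (cg (em y x a) (em y x (b + 1)) (k := r + 1 + 1 + 1) (by omega)) x)
      rw [h4, map_mul, map_mul, map_mul, ← (h5 _).eq, map_inv, mul_inv_cancel_right] at h3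
      rw [eq_inv_of_mul_eq_one_left h3, ih (a + 1) (by omega), ← zpow_neg, pow_succ]
      congr 1; ring
  have En : ∀ b a, a + b = r + 1 + 1 → ⁅eng y x a, eng y x b⁆ ∉ gam G (r + 1 + 1 + 1 + 1) := by
    intro b a ha h'
    have h1 := A b a ha
    rw [q1.2 (gam_cm h' x)] at h1
    rcases neg_one_pow_eq_or ℤ b with h3 | h3 <;> rw [h3] at h1
    · rw [zpow_one] at h1; exact e1 h1.symm
    · rw [zpow_neg, zpow_one] at h1; exact e1 (inv_eq_one.1 h1.symm)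
  have y1 : y ∈ tsc G (r + 1 + 1 + 1) := by
    by_contra c
    refine mc_cm_not h (by omega) c (cg (em y x (r + 1)) (em y x 1) (by omega)) (En 1 (r + 1) rfl) ?_
    have b1 : ⁅eng y x (r + 1), y⁆ ∈ gam G (r + 1 + 1 + 1) := hy _ (by omega) (by omega) _ (em y x _)
    have b2 : ⁅eng y x 1, y⁆ ∈ gam G (1 + 1 + 1) := hy _ (by omega) (by omega) _ (em y x _)
    have h1 := der (k := r + 1 + 1 + 1) (cg b1 (em y x 1) (by omega)) (cg (em y x (r + 1)) b2 (by omega))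
      (cg b1 b2 (by omega)) (cg (em y x (r + 1)) (em y x 1) (by omega))
    rw [q1.2 (cg b1 (em y x 1) (by omega)), q1.2 (cg (em y x (r + 1)) b2 (by omega)), one_mul] at h1
    exact q1.1 h1.symm
  have D : ∀ b a, a + b = r + 1 + 1 + 1 → f ⁅eng y x a, eng y x b⁆ = e ^ (-((-1 : ℤ) ^ b * b)) := by
    intro b
    induction b with
    | zero =>
      intro a ha
      obtain rfl : a = r + 1 + 1 + 1 := ha
      rw [Nat.cast_zero, mul_zero, neg_zero, zpow_zero]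
      exact q1.2 (y1 _ (em y x _))
    | succ b ih =>
      intro a ha
      have h1 : f _ * f _ = f _ := derx y x a b (r + 1 + 1 + 1) (by omega)
      rw [ih (a + 1) (by omega), A b a (by omega)] at h1
      rw [eq_inv_mul_of_mul_eq h1, ← zpow_neg, ← zpow_add, pow_succ]
      congr 1; push_cast; ring
  rcases Nat.even_or_odd' r with ⟨k, hk | hk⟩
  · exact En (k + 1) (k + 1) (by omega) (by rw [commutatorElement_self]; exact one_mem _)
  · have h1 := D (k + 2) (k + 2) (by omega)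
    rw [commutatorElement_self, map_one] at h1
    have h3 : e ^ (k + 2) = 1 := by
      rcases neg_one_pow_eq_or ℤ (k + 2) with h3 | h3 <;> rw [h3] at h1
      · rw [one_mul, zpow_neg, zpow_natCast] at h1; exact inv_eq_one.1 h1.symm
      · rw [neg_one_mul, neg_neg, zpow_natCast] at h1; exact h1.symm
    have h4 := orderOf_dvd_of_pow_eq_one h3
    rw [orderOf_eq_prime ep e1] at h4
    have := Nat.le_of_dvd (by omega) h4
    omega

end BL

theorem bl {G : Type u} [Group G] [Finite G] {p n l : ℕ} [hp : Fact p.Prime] (h : MaxClass p n G)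
    (h1 : 1 ≤ l) (hl : l + 4 ≤ n) : tsc G l = tsc G 1 := by
  have mx : ∀ i j, 1 ≤ i → j + 1 + 1 ≤ n - 1 → tsc G i ≤ tsc G j → tsc G j = tsc G i := by
    intro i j hi hj hle
    refine le_antisymm (fun s hs => ?_) hle
    by_contra c
    exact mc_tsc_ne h hj (eq_top_iff.2 ((mc_tsc_max h hi c).ge.trans (sup_le hle (zpowers_le.2 hs))))
  have p2 := hp.out.two_le
  induction l using Nat.strong_induction_on with | _ l ih =>
  rcases h1.eq_or_lt with rfl | h2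
  · rfl
  rcases lt_or_ge l p with hlp | hlp
  · obtain ⟨x, hx⟩ := exists_good n h
    obtain ⟨g, -, hg⟩ : ∃ g ∈ gam G 0, ⁅g, x⁆ ∉ gam G (0 + 1 + 1) := by
      by_contra! c; exact hx 0 (by omega) c
    have hg2 : g ∈ tsc G 1 ⊔ zpowers x := by rw [mc_tsc_max h le_rfl (hx 1 (by omega))]; trivial
    obtain ⟨y, hy, _, ⟨k, rfl⟩, rfl⟩ := (mem_sup_of_normal_left).1 hg2
    have h4 : ∀ u v : G, ⁅u * v, x⁆ = u * ⁅v, x⁆ * u⁻¹ * ⁅u, x⁆ := fun u v => by
      simp only [commutatorElement_def]; group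
    have h0 : ⁅y, x⁆ ∉ gam G 2 := by
      have : ⁅x ^ k, x⁆ = 1 := commutatorElement_eq_one_iff_commute.2 ((Commute.refl x).zpow_left k)
      dsimp only at hg
      rwa [h4, this, mul_one, mul_inv_cancel, one_mul] at hg
    have ky : ∀ z ∈ tsc G 1, ⁅z, x⁆ ∉ gam G 2 → z ∈ tsc G l := fun z hz h' =>
      BL.key h hx h2 hlp hl h' fun j j1 j2 => by rw [ih j j2 j1 (by omega)]; exact hz
    refine mx 1 l le_rfl (by omega) fun z hz => ?_
    by_cases c : ⁅z, x⁆ ∈ gam G 2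
    · have := ky (y * z) (mul_mem hy hz) (by
        rwa [h4, mul_mem_cancel_left (Normal.conj_mem inferInstance _ c y)])
      exact (mul_mem_cancel_left (ky y hy h0)).1 this
    · exact ky z hz c
  · obtain ⟨i, rfl⟩ : ∃ i, l = i + (p - 1) := ⟨l - (p - 1), by omega⟩
    refine (mx _ 1 (by omega) (by omega) fun s hs => ?_).symm
    rw [← ih i (by omega) (by omega) (by omega)]
    by_contra c
    exact mc_step h (by omega) (by omega) c hs

end Cfsg.Agent.MX
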